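import Mathlib
import Groth.Prelude.Def_WeakSerre
import Groth.Agent.Lib.Helper3.AdjHtpyPlus

/-!
# A Serre subcategory with a "torsion part" right adjoint (helper6)

Abstract setting: `B` abelian, `A` a Serre class in `B`, `adj : A.ι ⊣ t` with monic counit,
and three properties of multiplication by positive integers:
* `hS1`: an object killed by a positive integer lies in `A`;
* `hS2`: an object of `A` on which every positive integer acts injectively is zero;
* `hS3`: positive integers act surjectively on injective objects.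
Then for a complex `I` of injectives with cohomology in `A`, the termwise counit
`ι t I ⟶ I` is a quasi-isomorphism.
-/

set_option autoImplicit false
set_option linter.style.haveILetI false
set_option linter.unusedSectionVars false
set_option linter.unusedVariables false
universe v u
open CategoryTheory CategoryTheory.Limits

namespace Groth.Agent.Lib.Helper6.TorsD

open Groth.Agent.Helper3.AdjHtpyPlus

section SES
variable {B : Type u} [Category.{v} B] [Abelian B]

/-- in a short exact sequence of complexes with acyclic cokernel the first map is a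
quasi-isomorphism -/
theorem quasiIso_f_of_acyclic_X₃ {S : ShortComplex (CochainComplex B ℤ)} (hS : S.ShortExact)
    (h₃ : ∀ k, IsZero (S.X₃.homology k)) : QuasiIso S.f := by
  rw [quasiIso_iff]
  intro k
  rw [quasiIsoAt_iff_isIso_homologyMap]
  haveI : Mono (HomologicalComplex.homologyMap S.f k) :=
    (hS.homology_exact₁ (k - 1) k (by simp)).mono_g ((h₃ (k - 1)).eq_of_src _ _)
  haveI : Epi (HomologicalComplex.homologyMap S.f k) :=
    (hS.homology_exact₂ k).epi_f ((h₃ k).eq_of_tgt _ _)
  exact isIso_of_mono_of_epi _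

end SES

section Abstract

variable {B : Type u} [Category.{v} B] [Abelian B] (A : ObjectProperty B) [A.IsSerreClass]

/-- the homology of a complex with terms in `A` lies in `A` -/
theorem prop_homology (K : CochainComplex B ℤ) (hK : ∀ k, A (K.X k)) (k : ℤ) :
    A (K.homology k) :=
  A.prop_of_epi (K.homologyπ k) (A.prop_of_mono (K.iCycles k) (hK k))

/-- positive integers act injectively on the cokernel of the universal map from `A` -/
theorem mono_nsmul_coker_aux {T₀ Y : B} (ε : T₀ ⟶ Y) [Mono ε] (hT₀ : A T₀)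
    (huniv : ∀ (T : B), A T → ∀ φ : T ⟶ Y, ∃ ψ : T ⟶ T₀, ψ ≫ ε = φ)
    (hS1 : ∀ (G : B) (n : ℕ), 0 < n → n • 𝟙 G = 0 → A G) (n : ℕ) (hn : 0 < n) :
    Mono (n • 𝟙 (cokernel ε)) := by
  have hW : A (kernel (n • 𝟙 (cokernel ε))) := by
    apply hS1 _ n hn
    have h0 : kernel.ι (n • 𝟙 (cokernel ε)) ≫ (n • 𝟙 (cokernel ε)) = 0 := kernel.condition _
    rw [Preadditive.comp_nsmul, Category.comp_id] at h0
    rw [← cancel_mono (kernel.ι (n • 𝟙 (cokernel ε))), zero_comp, Preadditive.nsmul_comp,
      Category.id_comp]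
    exact h0
  have hεπ : ε ≫ (n • cokernel.π ε) = 0 := by
    rw [Preadditive.comp_nsmul, cokernel.condition, smul_zero]
  obtain ⟨ε', hε'⟩ : ∃ ε' : T₀ ⟶ kernel (n • cokernel.π ε),
      ε' ≫ kernel.ι (n • cokernel.π ε) = ε := ⟨kernel.lift _ _ hεπ, kernel.lift_ι _ _ _⟩
  have hq0 : (kernel.ι (n • cokernel.π ε) ≫ cokernel.π ε) ≫ (n • 𝟙 (cokernel ε)) = 0 := by
    rw [Category.assoc, Preadditive.comp_nsmul, Category.comp_id]
    exact kernel.condition _
  obtain ⟨q, hq⟩ : ∃ q : kernel (n • cokernel.π ε) ⟶ kernel (n • 𝟙 (cokernel ε)),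
      q ≫ kernel.ι (n • 𝟙 (cokernel ε)) = kernel.ι (n • cokernel.π ε) ≫ cokernel.π ε :=
    ⟨kernel.lift _ _ hq0, kernel.lift_ι _ _ _⟩
  have hε'q : ε' ≫ q = 0 := by
    rw [← cancel_mono (kernel.ι (n • 𝟙 (cokernel ε))), zero_comp, Category.assoc, hq,
      ← Category.assoc, hε']
    exact cokernel.condition ε
  haveI : Mono ε' := mono_of_mono_fac hε'
  have hker : IsLimit (KernelFork.ofι ε (cokernel.condition ε)) :=
    Abelian.monoIsKernelOfCokernel _ (colimit.isColimit _)
  have hS : (ShortComplex.mk ε' q hε'q).Exact := by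
    apply ShortComplex.exact_of_f_is_kernel
    refine KernelFork.IsLimit.ofι' ε' hε'q (fun {T} x hx => ?_)
    have hx2 : (x ≫ kernel.ι (n • cokernel.π ε)) ≫ cokernel.π ε = 0 := by
      rw [Category.assoc, ← hq, ← Category.assoc, hx, zero_comp]
    let l := KernelFork.IsLimit.lift' hker (x ≫ kernel.ι (n • cokernel.π ε)) hx2
    refine ⟨l.1, ?_⟩
    rw [← cancel_mono (kernel.ι (n • cokernel.π ε)), Category.assoc, hε']
    exact l.2
  have hE : A (kernel (n • cokernel.π ε)) := A.prop_X₂_of_exact hS hT₀ hW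
  have hfac : kernel.ι (n • cokernel.π ε) ≫ cokernel.π ε = 0 := by
    obtain ⟨ψ, hψ⟩ := huniv _ hE (kernel.ι (n • cokernel.π ε))
    rw [← hψ, Category.assoc, cokernel.condition, comp_zero]
  apply Preadditive.mono_of_cancel_zero
  intro P g hg
  have hg' : n • g = 0 := by
    rw [← hg, Preadditive.comp_nsmul, Category.comp_id]
  have hp : pullback.fst g (cokernel.π ε) ≫ g = pullback.snd g (cokernel.π ε) ≫ cokernel.π ε :=
    pullback.condition
  have h2 : pullback.snd g (cokernel.π ε) ≫ (n • cokernel.π ε) = 0 := by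
    rw [Preadditive.comp_nsmul, ← hp, ← Preadditive.comp_nsmul, hg', comp_zero]
  have h3 : pullback.snd g (cokernel.π ε) ≫ cokernel.π ε = 0 := by
    rw [← kernel.lift_ι (n • cokernel.π ε) (pullback.snd g (cokernel.π ε)) h2, Category.assoc, hfac,
      comp_zero]
  have h4 : pullback.fst g (cokernel.π ε) ≫ g = 0 := hp.trans h3
  haveI : Epi (pullback.fst g (cokernel.π ε)) := Abelian.epi_pullback_of_epi_g g (cokernel.π ε)
  exact (cancel_epi (pullback.fst g (cokernel.π ε))).1 (h4.trans comp_zero.symm)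

variable {t : B ⥤ A.FullSubcategory} (adj : A.ι ⊣ t) [t.Additive]

include adj in
theorem mono_nsmul_coker (hmono : ∀ Y, Mono (adj.counit.app Y))
    (hS1 : ∀ (G : B) (n : ℕ), 0 < n → n • 𝟙 G = 0 → A G) (Y : B) (n : ℕ) (hn : 0 < n) :
    Mono (n • 𝟙 (cokernel (adj.counit.app Y))) := by
  haveI := hmono Y
  refine mono_nsmul_coker_aux A (adj.counit.app Y) (t.obj Y).property (fun T hT φ => ?_) hS1 n hn
  let T' : A.FullSubcategory := ⟨T, hT⟩
  refine ⟨A.ι.map (adj.homEquiv T' Y φ), ?_⟩
  have := (adj.homEquiv T' Y).symm_apply_apply φ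
  rw [Adjunction.homEquiv_counit] at this
  exact this

/-- the cokernel complex of the termwise counit -/
noncomputable def Vcx (I : CochainComplex B ℤ) : CochainComplex B ℤ where
  X k := cokernel (adj.counit.app (I.X k))
  d j k := cokernel.map _ _ (A.ι.map (t.map (I.d j k))) (I.d j k)
    (adj.counit.naturality (I.d j k)).symm
  shape j k h := by
    apply coequalizer.hom_ext
    simp [I.shape j k h]
  d_comp_d' j k l _ _ := by
    apply coequalizer.hom_ext
    simp

/-- the projection to the cokernel complex -/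
noncomputable def πV (I : CochainComplex B ℤ) : I ⟶ Vcx A adj I where
  f k := cokernel.π _
  comm' j k _ := by
    simp [Vcx]

/-- the short complex `ι t I ⟶ I ⟶ V` -/
noncomputable def SV (I : CochainComplex B ℤ) : ShortComplex (CochainComplex B ℤ) :=
  ShortComplex.mk (counitC adj (ComplexShape.up ℤ) I) (πV A adj I) (by
    ext k
    exact cokernel.condition (adj.counit.app (I.X k)))

theorem SV_shortExact (hmono : ∀ Y, Mono (adj.counit.app Y)) (I : CochainComplex B ℤ) :
    (SV A adj I).ShortExact := by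
  apply HomologicalComplex.shortExact_of_degreewise_shortExact
  intro k
  haveI := hmono (I.X k)
  exact
    { exact := ShortComplex.exact_cokernel (adj.counit.app (I.X k))
      mono_f := hmono (I.X k)
      epi_g := inferInstanceAs (Epi (cokernel.π (adj.counit.app (I.X k)))) }

/-- **the termwise counit is a quasi-isomorphism on complexes of injectives with cohomology
in `A`** -/
theorem quasiIso_counitC (hmono : ∀ Y, Mono (adj.counit.app Y))
    (hS1 : ∀ (G : B) (n : ℕ), 0 < n → n • 𝟙 G = 0 → A G)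
    (hS2 : ∀ G : B, A G → (∀ n : ℕ, 0 < n → Mono (n • 𝟙 G)) → IsZero G)
    (hS3 : ∀ (I : B), Injective I → ∀ n : ℕ, 0 < n → Epi (n • 𝟙 I))
    (I : CochainComplex B ℤ) (hinj : ∀ k, Injective (I.X k)) (hI : ∀ k, A (I.homology k)) :
    QuasiIso (counitC adj (ComplexShape.up ℤ) I) := by
  have hSE := SV_shortExact A adj hmono I
  refine quasiIso_f_of_acyclic_X₃ hSE (fun k => ?_)
  have hX₁ : A ((SV A adj I).X₁.homology (k + 1)) :=
    prop_homology A _ (fun j => (t.obj (I.X j)).property) (k + 1)
  have hA : A ((Vcx A adj I).homology k) :=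
    A.prop_X₂_of_exact (hSE.homology_exact₃ k (k + 1) (by simp)) (hI k) hX₁
  refine hS2 _ hA (fun n hn => ?_)
  haveI : ∀ j, IsIso ((n • 𝟙 (Vcx A adj I)).f j) := fun j => by
    haveI hm : Mono (n • 𝟙 (cokernel (adj.counit.app (I.X j)))) :=
      mono_nsmul_coker A adj hmono hS1 (I.X j) n hn
    haveI he0 : Epi (n • 𝟙 (I.X j)) := hS3 _ (hinj j) n hn
    haveI he : Epi (n • 𝟙 (cokernel (adj.counit.app (I.X j)))) := by
      have hfac : cokernel.π (adj.counit.app (I.X j)) ≫
          (n • 𝟙 (cokernel (adj.counit.app (I.X j)))) =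
          (n • 𝟙 (I.X j)) ≫ cokernel.π (adj.counit.app (I.X j)) := by
        rw [Preadditive.comp_nsmul, Preadditive.nsmul_comp, Category.id_comp, Category.comp_id]
      haveI : Epi ((n • 𝟙 (I.X j)) ≫ cokernel.π (adj.counit.app (I.X j))) := epi_comp _ _
      exact epi_of_epi_fac hfac
    haveI hiso : IsIso (n • 𝟙 (cokernel (adj.counit.app (I.X j)))) := isIso_of_mono_of_epi _
    have hf : (n • 𝟙 (Vcx A adj I)).f j = n • 𝟙 (cokernel (adj.counit.app (I.X j))) :=
      (HomologicalComplex.nsmul_f_apply n (𝟙 (Vcx A adj I)) j).trans rfl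
    rw [hf]
    exact hiso
  haveI : IsIso (n • 𝟙 (Vcx A adj I)) := HomologicalComplex.Hom.isIso_of_components _
  have hmap : (HomologicalComplex.homologyFunctor B (ComplexShape.up ℤ) k).map
      (n • 𝟙 (Vcx A adj I)) = n • 𝟙 ((SV A adj I).X₃.homology k) := by
    rw [Functor.map_nsmul, CategoryTheory.Functor.map_id]
    rfl
  rw [← hmap]
  have h9 : IsIso ((HomologicalComplex.homologyFunctor B (ComplexShape.up ℤ) k).map
      (n • 𝟙 (Vcx A adj I))) := Functor.map_isIso _ _
  exact @IsIso.mono_of_iso _ _ _ _ _ h9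

end Abstract

end Groth.Agent.Lib.Helper6.TorsD
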