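import Mathlib
import Groth.Prelude.Def_WeakSerre
import Groth.Agent.Lib.Helper6.TorsD.Abstract
import Groth.Agent.Lib.Helper5.Shriek.DerAdjR

/-!
# `D(A) ⥤ D(B)` is fully faithful with essential image `D_A(B)` (helper6)

Abstract setting of `TorsD.Abstract`, plus K-injective resolutions with injective terms in `B`.
-/

set_option autoImplicit false
set_option linter.style.haveILetI false
set_option linter.unusedSectionVars false
set_option linter.unusedVariables false
universe w w' v u
open CategoryTheory CategoryTheory.Limits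

namespace Groth.Agent.Lib.Helper6.TorsD

open Groth.Agent.Helper3.AdjHtpyPlus Groth.Agent.Lib.Helper5.KProj Helper5.KInj DerivedCategory

theorem isIso_of_comm_sq {D : Type*} [Category D] {W X Y Z : D} (a : W ⟶ X) (b : X ⟶ Z)
    (c : W ⟶ Y) (d : Y ⟶ Z) (h : a ≫ b = c ≫ d) (ha : IsIso a) (hb : IsIso b) (hd : IsIso d) :
    IsIso c := by
  have hc : c = a ≫ b ≫ inv d := by
    rw [← Category.assoc, h, Category.assoc, IsIso.hom_inv_id, Category.comp_id]
  rw [hc]
  infer_instance

section Derived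

variable {B : Type u} [Category.{v} B] [Abelian B] (A : ObjectProperty B) [A.IsSerreClass]
  {t : B ⥤ A.FullSubcategory} (adj : A.ι ⊣ t) [t.Additive]

theorem isIso_unitC (X : CochainComplex A.FullSubcategory ℤ) :
    IsIso (unitC adj (ComplexShape.up ℤ) X) := by
  haveI : ∀ k, IsIso ((unitC adj (ComplexShape.up ℤ) X).f k) := fun k => by
    rw [unitC_f]
    haveI : A.ι.Full := ObjectProperty.full_ι A
    haveI : A.ι.Faithful := ObjectProperty.faithful_ι A
    haveI : IsIso adj.unit := Adjunction.unit_isIso_of_L_fully_faithful adj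
    exact NatIso.isIso_app_of_isIso adj.unit (X.X k)
  exact HomologicalComplex.Hom.isIso_of_components _

theorem isIso_counitC_ι (X : CochainComplex A.FullSubcategory ℤ) :
    IsIso (counitC adj (ComplexShape.up ℤ)
      ((A.ι.mapHomologicalComplex (ComplexShape.up ℤ)).obj X)) := by
  haveI := isIso_unitC A adj X
  exact IsIso.of_isIso_fac_left (left_triangleC adj (ComplexShape.up ℤ) X)

theorem quasiIso_t_map
    (hmono : ∀ Y, Mono (adj.counit.app Y))
    (hS1 : ∀ (G : B) (n : ℕ), 0 < n → n • 𝟙 G = 0 → A G)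
    (hS2 : ∀ G : B, A G → (∀ n : ℕ, 0 < n → Mono (n • 𝟙 G)) → IsZero G)
    (hS3 : ∀ (I : B), Injective I → ∀ n : ℕ, 0 < n → Epi (n • 𝟙 I))
    (X : CochainComplex A.FullSubcategory ℤ) (I : CochainComplex B ℤ)
    (r : (A.ι.mapHomologicalComplex (ComplexShape.up ℤ)).obj X ⟶ I) (hr : QuasiIso r)
    (hinj : ∀ k, Injective (I.X k)) :
    QuasiIso ((t.mapHomologicalComplex (ComplexShape.up ℤ)).map r) := by
  haveI := hr
  have hI : ∀ k, A (I.homology k) := fun k => by
    have e : ((A.ι.mapHomologicalComplex (ComplexShape.up ℤ)).obj X).homology k ≅ I.homology k :=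
      asIso (HomologicalComplex.homologyMap r k)
    exact A.prop_of_iso e (prop_homology A _ (fun j => (X.X j).property) k)
  haveI := quasiIso_counitC A adj hmono hS1 hS2 hS3 I hinj hI
  haveI := isIso_counitC_ι A adj X
  refine (HomologicalComplex.quasiIso_map_iff_of_preservesHomology _ A.ι).1 ?_
  refine (quasiIso_iff_comp_right _ (counitC adj (ComplexShape.up ℤ) I)).1 ?_
  rw [counitC_naturality]
  infer_instance

variable [HasDerivedCategory.{w} B] [HasDerivedCategory.{w'} A.FullSubcategory]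

section Unit

variable [HasR t]

theorem isIso_unit_app_Q (hC : HasKInjRes B)
    (hRes : ∀ Y : CochainComplex B ℤ, ∃ (I : CochainComplex B ℤ) (f : Y ⟶ I),
      I.IsKInjective ∧ QuasiIso f ∧ ∀ n, Injective (I.X n))
    (hmono : ∀ Y, Mono (adj.counit.app Y))
    (hS1 : ∀ (G : B) (n : ℕ), 0 < n → n • 𝟙 G = 0 → A G)
    (hS2 : ∀ G : B, A G → (∀ n : ℕ, 0 < n → Mono (n • 𝟙 G)) → IsZero G)
    (hS3 : ∀ (I : B), Injective I → ∀ n : ℕ, 0 < n → Epi (n • 𝟙 I))
    (X : CochainComplex A.FullSubcategory ℤ) :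
    IsIso ((derivedAdjR adj hC).unit.app (Q.obj X)) := by
  obtain ⟨I, r, hIK, hr, hinj⟩ := hRes ((A.ι.mapHomologicalComplex (ComplexShape.up ℤ)).obj X)
  haveI := hIK
  haveI := hr
  have hfac : (derivedAdjR adj hC).unit.app
        (Qh.obj ((HomotopyCategory.quotient A.FullSubcategory (ComplexShape.up ℤ)).obj X)) ≫
        (RD t).map ((αF A.ι).app
          ((HomotopyCategory.quotient A.FullSubcategory (ComplexShape.up ℤ)).obj X)) =
      Qh.map ((adjH adj (ComplexShape.up ℤ)).unit.app
        ((HomotopyCategory.quotient A.FullSubcategory (ComplexShape.up ℤ)).obj X)) ≫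
        (Rη t).app ((A.ι.mapHomotopyCategory (ComplexShape.up ℤ)).obj
          ((HomotopyCategory.quotient A.FullSubcategory (ComplexShape.up ℤ)).obj X)) := by
    haveI := isLeft_auxR (F := A.ι) (H := t)
    haveI := isRight_auxR (F := A.ι) (H := t) hC
    exact Adjunction.derivedη_fac_app (adjH adj (ComplexShape.up ℤ))
      (HomotopyCategory.quasiIso A.FullSubcategory (ComplexShape.up ℤ)) (αF A.ι) (Rη t)
      ((HomotopyCategory.quotient A.FullSubcategory (ComplexShape.up ℤ)).obj X)
  have h1 : IsIso ((αF A.ι).app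
      ((HomotopyCategory.quotient A.FullSubcategory (ComplexShape.up ℤ)).obj X)) := by
    unfold αF
    infer_instance
  have h1' : IsIso ((RD t).map ((αF A.ι).app
      ((HomotopyCategory.quotient A.FullSubcategory (ComplexShape.up ℤ)).obj X))) := by
    haveI := h1
    infer_instance
  have h2 : IsIso (Qh.map ((adjH adj (ComplexShape.up ℤ)).unit.app
      ((HomotopyCategory.quotient A.FullSubcategory (ComplexShape.up ℤ)).obj X))) := by
    rw [adjH_unit_app]
    haveI h0 := isIso_unitC A adj X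
    haveI h0' : IsIso ((HomotopyCategory.quotient A.FullSubcategory (ComplexShape.up ℤ)).map
        (unitC adj (ComplexShape.up ℤ) X)) :=
      @Functor.map_isIso _ _ _ _ _ _ (HomotopyCategory.quotient A.FullSubcategory (ComplexShape.up ℤ))
        (unitC adj (ComplexShape.up ℤ) X) h0
    exact @Functor.map_isIso _ _ _ _ _ _ Qh _ h0'
  have h3 : IsIso ((Rη t).app ((A.ι.mapHomotopyCategory (ComplexShape.up ℤ)).obj
      ((HomotopyCategory.quotient A.FullSubcategory (ComplexShape.up ℤ)).obj X))) := by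
    have hnat := (Rη t).naturality ((HomotopyCategory.quotient B (ComplexShape.up ℤ)).map r)
    have ha : IsIso ((KhR t).map ((HomotopyCategory.quotient B (ComplexShape.up ℤ)).map r)) := by
      haveI := quasiIso_t_map A adj hmono hS1 hS2 hS3 X I r hr hinj
      have h' : IsIso (Q.map ((t.mapHomologicalComplex (ComplexShape.up ℤ)).map r)) := by
        rw [isIso_Q_map_iff_quasiIso]
        infer_instance
      exact h'
    have hb : IsIso ((Rη t).app ((HomotopyCategory.quotient B (ComplexShape.up ℤ)).obj I)) :=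
      isIso_app_of_isKInjective (KhR t) hC (RD t) (Rη t) I
    have hd : IsIso ((Qh ⋙ RD t).map
        ((HomotopyCategory.quotient B (ComplexShape.up ℤ)).map r)) := by
      have h' : IsIso (Q.map r) := by
        rw [isIso_Q_map_iff_quasiIso]
        infer_instance
      have h'' : IsIso (Qh.map ((HomotopyCategory.quotient B (ComplexShape.up ℤ)).map r)) := h'
      haveI := h''
      change IsIso ((RD t).map (Qh.map ((HomotopyCategory.quotient B (ComplexShape.up ℤ)).map r)))
      infer_instance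
    exact isIso_of_comm_sq _ _ _ _ hnat ha hb hd
  have hη : IsIso ((derivedAdjR adj hC).unit.app
      (Qh.obj ((HomotopyCategory.quotient A.FullSubcategory (ComplexShape.up ℤ)).obj X))) :=
    isIso_of_comm_sq _ _ _ _ hfac.symm h2 h3 h1'
  exact hη

theorem isIso_unit (hC : HasKInjRes B)
    (hRes : ∀ Y : CochainComplex B ℤ, ∃ (I : CochainComplex B ℤ) (f : Y ⟶ I),
      I.IsKInjective ∧ QuasiIso f ∧ ∀ n, Injective (I.X n))
    (hmono : ∀ Y, Mono (adj.counit.app Y))
    (hS1 : ∀ (G : B) (n : ℕ), 0 < n → n • 𝟙 G = 0 → A G)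
    (hS2 : ∀ G : B, A G → (∀ n : ℕ, 0 < n → Mono (n • 𝟙 G)) → IsZero G)
    (hS3 : ∀ (I : B), Injective I → ∀ n : ℕ, 0 < n → Epi (n • 𝟙 I)) :
    IsIso (derivedAdjR adj hC).unit := by
  haveI : ∀ Y, IsIso ((derivedAdjR adj hC).unit.app Y) := fun Y =>
    (NatTrans.isIso_app_iff_of_iso (derivedAdjR adj hC).unit (Q.objObjPreimageIso Y)).1
      (isIso_unit_app_Q A adj hC hRes hmono hS1 hS2 hS3 _)
  exact NatIso.isIso_of_isIso_app _

end Unit

/-- **`D(A) ⥤ D(B)` is fully faithful** -/
theorem full_and_faithful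
    (hRes : ∀ Y : CochainComplex B ℤ, ∃ (I : CochainComplex B ℤ) (f : Y ⟶ I),
      I.IsKInjective ∧ QuasiIso f ∧ ∀ n, Injective (I.X n))
    (hmono : ∀ Y, Mono (adj.counit.app Y))
    (hS1 : ∀ (G : B) (n : ℕ), 0 < n → n • 𝟙 G = 0 → A G)
    (hS2 : ∀ G : B, A G → (∀ n : ℕ, 0 < n → Mono (n • 𝟙 G)) → IsZero G)
    (hS3 : ∀ (I : B), Injective I → ∀ n : ℕ, 0 < n → Epi (n • 𝟙 I)) :
    (A.ι.mapDerivedCategory).Full ∧ (A.ι.mapDerivedCategory).Faithful := by
  have hC : HasKInjRes B := fun Y => by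
    obtain ⟨I, f, h1, h2, -⟩ := hRes Y
    exact ⟨I, f, h1, h2⟩
  haveI : HasR t := hasR hC
  haveI := isIso_unit A adj hC hRes hmono hS1 hS2 hS3
  have ff := (derivedAdjR adj hC).fullyFaithfulLOfIsIsoUnit
  exact ⟨ff.full, ff.faithful⟩

/-- complexes with cohomology in `A` are in the essential image -/
theorem essImage_of_cohIn
    (hRes : ∀ Y : CochainComplex B ℤ, ∃ (I : CochainComplex B ℤ) (f : Y ⟶ I),
      I.IsKInjective ∧ QuasiIso f ∧ ∀ n, Injective (I.X n))
    (hmono : ∀ Y, Mono (adj.counit.app Y))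
    (hS1 : ∀ (G : B) (n : ℕ), 0 < n → n • 𝟙 G = 0 → A G)
    (hS2 : ∀ G : B, A G → (∀ n : ℕ, 0 < n → Mono (n • 𝟙 G)) → IsZero G)
    (hS3 : ∀ (I : B), Injective I → ∀ n : ℕ, 0 < n → Epi (n • 𝟙 I))
    (K : DerivedCategory B) (hK : WSerre.cohIn A K) : (A.ι.mapDerivedCategory).essImage K := by
  obtain ⟨I, f, hIK, hf, hinj⟩ := hRes (Q.objPreimage K)
  haveI := hf
  haveI : IsIso (Q.map f) := by
    rw [isIso_Q_map_iff_quasiIso]
    exact hf
  have e : K ≅ Q.obj I := (Q.objObjPreimageIso K).symm ≪≫ asIso (Q.map f)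
  have hI : ∀ k, A (I.homology k) := fun k => by
    have e1 : (homologyFunctor B k).obj K ≅ I.homology k :=
      (homologyFunctor B k).mapIso e ≪≫ (homologyFunctorFactors B k).app I
    exact A.prop_of_iso e1 (hK k)
  haveI := quasiIso_counitC A adj hmono hS1 hS2 hS3 I hinj hI
  haveI : IsIso (Q.map (counitC adj (ComplexShape.up ℤ) I)) := by
    rw [isIso_Q_map_iff_quasiIso]
    infer_instance
  refine ⟨Q.obj ((t.mapHomologicalComplex (ComplexShape.up ℤ)).obj I), ⟨?_⟩⟩
  exact (A.ι.mapDerivedCategoryFactors).app _ ≪≫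
    asIso (Q.map (counitC adj (ComplexShape.up ℤ) I)) ≪≫ e.symm

/-- the essential image has cohomology in `A` -/
theorem cohIn_of_essImage (K : DerivedCategory B) (hK : (A.ι.mapDerivedCategory).essImage K) :
    WSerre.cohIn A K := by
  obtain ⟨X, ⟨e⟩⟩ := hK
  intro k
  have e0 : Q.obj (Q.objPreimage X) ≅ X := Q.objObjPreimageIso X
  have e1 : (A.ι.mapDerivedCategory).obj X ≅
      Q.obj ((A.ι.mapHomologicalComplex (ComplexShape.up ℤ)).obj (Q.objPreimage X)) :=
    (A.ι.mapDerivedCategory).mapIso e0.symm ≪≫ (A.ι.mapDerivedCategoryFactors).app _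
  have e2 : (homologyFunctor B k).obj K ≅
      ((A.ι.mapHomologicalComplex (ComplexShape.up ℤ)).obj (Q.objPreimage X)).homology k :=
    (homologyFunctor B k).mapIso (e.symm ≪≫ e1) ≪≫ (homologyFunctorFactors B k).app _
  exact A.prop_of_iso e2.symm
    (prop_homology A _ (fun j => ((Q.objPreimage X).X j).property) k)

end Derived

end Groth.Agent.Lib.Helper6.TorsD
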