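import Mathlib
import Groth.Prelude.Def_SiteCmp
import Groth.Prelude.Def_CohCx
import Groth.Agent.Lib.Helper3.ShSec
import Groth.Agent.Lib.Helper3.ConstTF1
import Groth.Agent.Lib.Helper5.Misc.FreeSec

/-!
# The torsion subsheaf of an abelian sheaf (helper6)

`tFunctor J : Sheaf J Ab ⥤ (torsionSh J).FullSubcategory`, right adjoint to the inclusion, with
monic counit; and the three facts on multiplication by positive integers used in
`TorsD.Abstract`.
-/

set_option autoImplicit false
set_option linter.style.haveILetI false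
set_option linter.unusedSectionVars false
set_option linter.unusedVariables false
universe u
open CategoryTheory CategoryTheory.Limits Opposite

namespace Groth.Agent.Lib.Helper6.TorsD

open Groth.Agent.Helper3.ShSec Groth.Agent.Lib.Helper5.Misc

variable {C : Type u} [SmallCategory C] {J : GrothendieckTopology C}

theorem sheafHom_ext {F G : Sheaf J AddCommGrpCat.{u}} {f g : F ⟶ G}
    (h : ∀ (X : Cᵒᵖ) (s : F.obj.obj X), (f.hom.app X).hom s = (g.hom.app X).hom s) : f = g := by
  apply Sheaf.hom_ext
  ext X s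
  exact h X s

theorem isOfFinAddOrder_subtype {G : Type*} [AddCommGroup G] (H : AddSubgroup G) (x : H)
    (hx : IsOfFinAddOrder (x : G)) : IsOfFinAddOrder x := by
  rw [isOfFinAddOrder_iff_nsmul_eq_zero] at hx ⊢
  obtain ⟨n, hn, h⟩ := hx
  exact ⟨n, hn, Subtype.ext ((AddSubgroup.coe_nsmul H x n).trans h)⟩

section Res

variable (F : Sheaf J AddCommGrpCat.{u})

/-- restriction of sections -/
def res {V W : C} (g : W ⟶ V) (s : F.obj.obj (op V)) : F.obj.obj (op W) := (F.obj.map g.op).hom s

theorem res_add {V W : C} (g : W ⟶ V) (s t : F.obj.obj (op V)) :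
    res F g (s + t) = res F g s + res F g t :=
  map_add (F.obj.map g.op).hom s t

theorem res_zero {V W : C} (g : W ⟶ V) : res F g (0 : F.obj.obj (op V)) = 0 :=
  map_zero (F.obj.map g.op).hom

theorem res_neg {V W : C} (g : W ⟶ V) (s : F.obj.obj (op V)) : res F g (-s) = -res F g s :=
  map_neg (F.obj.map g.op).hom s

theorem res_id {V : C} (s : F.obj.obj (op V)) : res F (𝟙 V) s = s :=
  ConcreteCategory.congr_hom (F.obj.map_id (op V)) s

theorem res_comp {U V W : C} (g : V ⟶ U) (h : W ⟶ V) (s : F.obj.obj (op U)) :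
    res F (h ≫ g) s = res F h (res F g s) :=
  (Groth.Agent.Helper3.ConstTF.map_map F g h s).symm

theorem res_hom {G : Sheaf J AddCommGrpCat.{u}} (f : F ⟶ G) {V W : C} (g : W ⟶ V)
    (s : F.obj.obj (op V)) :
    res G g ((f.hom.app (op V)).hom s) = (f.hom.app (op W)).hom (res F g s) :=
  (Groth.Agent.Helper3.ConstTF.nat_apply f g s).symm

/-- the sieve of arrows along which `s` becomes of finite order -/
def finSieve {U : C} (s : F.obj.obj (op U)) : Sieve U where
  arrows _ g := IsOfFinAddOrder (res F g s)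
  downward_closed := by
    rintro V W g hg h
    rw [res_comp]
    exact AddMonoidHom.isOfFinAddOrder (F.obj.map h.op).hom hg

theorem finSieve_apply {U V : C} (s : F.obj.obj (op U)) (g : V ⟶ U) :
    finSieve F s g ↔ IsOfFinAddOrder (res F g s) := Iff.rfl

theorem finSieve_pullback {U V : C} (s : F.obj.obj (op U)) (g : V ⟶ U) :
    (finSieve F s).pullback g = finSieve F (res F g s) := by
  ext W h
  rw [Sieve.pullback_apply, finSieve_apply, finSieve_apply, res_comp]

/-- `s` is locally of finite additive order -/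
def IsTorsSect {U : C} (s : F.obj.obj (op U)) : Prop := finSieve F s ∈ J U

namespace IsTorsSect

variable {F}

theorem iff_exists {U : C} (s : F.obj.obj (op U)) :
    IsTorsSect F s ↔ ∃ S ∈ J U, ∀ ⦃V : C⦄ (g : V ⟶ U), S g →
      IsOfFinAddOrder ((F.obj.map g.op).hom s) :=
  ⟨fun h => ⟨_, h, fun _ _ hg => hg⟩, fun ⟨_, hS, h⟩ => J.superset_covering (fun _ _ hg => h _ hg) hS⟩

theorem of_finOrder {U : C} {s : F.obj.obj (op U)} (hs : IsOfFinAddOrder s) : IsTorsSect F s := by
  have : finSieve F s = ⊤ := by
    rw [eq_top_iff]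
    rintro V g -
    exact AddMonoidHom.isOfFinAddOrder (F.obj.map g.op).hom hs
  rw [IsTorsSect, this]
  exact J.top_mem U

variable (F) in
theorem zero (U : C) : IsTorsSect F (0 : F.obj.obj (op U)) := of_finOrder IsOfFinAddOrder.zero

theorem res {U V : C} (g : V ⟶ U) {s : F.obj.obj (op U)} (hs : IsTorsSect F s) :
    IsTorsSect F (TorsD.res F g s) := by
  rw [IsTorsSect, ← finSieve_pullback]
  exact J.pullback_stable g hs

theorem add {U : C} {s t : F.obj.obj (op U)} (hs : IsTorsSect F s) (ht : IsTorsSect F t) :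
    IsTorsSect F (s + t) := by
  refine J.superset_covering ?_ (J.intersection_covering hs ht)
  rintro V g ⟨h1, h2⟩
  have h1' : IsOfFinAddOrder (TorsD.res F g s) := h1
  have h2' : IsOfFinAddOrder (TorsD.res F g t) := h2
  show IsOfFinAddOrder (TorsD.res F g (s + t))
  rw [res_add]
  exact h1'.add h2'

theorem neg {U : C} {s : F.obj.obj (op U)} (hs : IsTorsSect F s) : IsTorsSect F (-s) := by
  refine J.superset_covering ?_ hs
  rintro V g h1
  have h1' : IsOfFinAddOrder (TorsD.res F g s) := h1
  show IsOfFinAddOrder (TorsD.res F g (-s))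
  rw [res_neg]
  exact h1'.neg

theorem hom {G : Sheaf J AddCommGrpCat.{u}} (f : F ⟶ G) {U : C} {s : F.obj.obj (op U)}
    (hs : IsTorsSect F s) : IsTorsSect G ((f.hom.app (op U)).hom s) := by
  refine J.superset_covering ?_ hs
  rintro V g h1
  have h1' : IsOfFinAddOrder (TorsD.res F g s) := h1
  show IsOfFinAddOrder (TorsD.res G g ((f.hom.app (op U)).hom s))
  rw [res_hom]
  exact AddMonoidHom.isOfFinAddOrder (f.hom.app (op V)).hom h1'

/-- locality -/
theorem of_cover {U : C} {s : F.obj.obj (op U)} {S : Sieve U} (hS : S ∈ J U)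
    (h : ∀ ⦃V : C⦄ (g : V ⟶ U), S g → IsTorsSect F (TorsD.res F g s)) : IsTorsSect F s := by
  refine J.transitive hS _ fun V g hg => ?_
  rw [finSieve_pullback]
  exact h g hg

end IsTorsSect

/-- the torsion sections over `U` -/
def torsSub (U : C) : AddSubgroup (F.obj.obj (op U)) where
  carrier := {s | IsTorsSect F s}
  zero_mem' := IsTorsSect.zero F U
  add_mem' hs ht := IsTorsSect.add hs ht
  neg_mem' hs := IsTorsSect.neg hs

theorem mem_torsSub_iff {U : C} (s : F.obj.obj (op U)) : s ∈ torsSub F U ↔ IsTorsSect F s := Iff.rfl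

/-- the presheaf of torsion sections -/
def torsPre : Cᵒᵖ ⥤ AddCommGrpCat.{u} where
  obj X := AddCommGrpCat.of (torsSub F (unop X))
  map {X Y} f := AddCommGrpCat.ofHom
    { toFun := fun s => ⟨res F f.unop s.1, IsTorsSect.res f.unop s.2⟩
      map_zero' := Subtype.ext (res_zero F f.unop)
      map_add' := fun s t => Subtype.ext (res_add F f.unop s.1 t.1) }
  map_id X := by
    ext s
    exact res_id F s.1
  map_comp f g := by
    ext s
    exact res_comp F f.unop g.unop s.1

theorem torsPre_map_apply {X Y : Cᵒᵖ} (f : X ⟶ Y) (s : torsSub F (unop X)) :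
    ((torsPre F).map f).hom s = ⟨res F f.unop s.1, IsTorsSect.res f.unop s.2⟩ := rfl

/-- the torsion sections as a subfunctor of the underlying presheaf of sets -/
def torsSubfunctor : Subfunctor (F.obj ⋙ forget AddCommGrpCat.{u}) where
  obj X := {s | IsTorsSect F (U := unop X) s}
  map f _ hs := IsTorsSect.res f.unop hs

/-- the two presheaves of sets agree -/
def torsPreIso : torsPre F ⋙ forget AddCommGrpCat.{u} ≅ (torsSubfunctor F).toFunctor :=
  NatIso.ofComponents (fun X => Equiv.toIso
    { toFun := fun s => ⟨s.1, s.2⟩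
      invFun := fun s => ⟨s.1, s.2⟩
      left_inv := fun _ => rfl
      right_inv := fun _ => rfl }) (fun _ => rfl)

theorem isSheaf_torsPre : Presheaf.IsSheaf J (torsPre F) := by
  have hM : Presieve.IsSheaf J (F.obj ⋙ forget AddCommGrpCat.{u}) :=
    (isSheaf_iff_isSheaf_of_type J _).1
      ((Presheaf.isSheaf_iff_isSheaf_forget J F.obj (forget AddCommGrpCat.{u})).1 F.property)
  rw [Presheaf.isSheaf_iff_isSheaf_forget J (torsPre F) (forget AddCommGrpCat.{u}),
    isSheaf_iff_isSheaf_of_type]
  refine Presieve.isSheaf_iso J (torsPreIso F).symm (((torsSubfunctor F).isSheaf_iff hM).2 ?_)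
  intro X s hs
  exact IsTorsSect.of_cover hs fun V g hg => hg

/-- the torsion subsheaf -/
def tObj : Sheaf J AddCommGrpCat.{u} := ⟨torsPre F, isSheaf_torsPre F⟩

variable {F} in
/-- the torsion subsheaf on morphisms -/
def tMap {G : Sheaf J AddCommGrpCat.{u}} (f : F ⟶ G) : tObj F ⟶ tObj G :=
  ObjectProperty.homMk
    { app := fun X => AddCommGrpCat.ofHom
        { toFun := fun s => ⟨(f.hom.app X).hom s.1, IsTorsSect.hom f s.2⟩
          map_zero' := Subtype.ext (map_zero (f.hom.app X).hom)
          map_add' := fun s t => Subtype.ext (map_add (f.hom.app X).hom s.1 t.1) }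
      naturality := fun X Y g => by
        ext s
        first
          | exact (res_hom F f g.unop s.1).symm
          | (apply Subtype.ext; exact (res_hom F f g.unop s.1).symm) }

/-- the inclusion of the torsion subsheaf -/
def tι : tObj F ⟶ F :=
  ObjectProperty.homMk
    { app := fun X => AddCommGrpCat.ofHom
        { toFun := fun s => s.1
          map_zero' := rfl
          map_add' := fun _ _ => rfl }
      naturality := fun _ _ g => by
        ext s
        rfl }

theorem tι_apply (X : Cᵒᵖ) (s : torsSub F (unop X)) : ((tι F).hom.app X).hom s = s.1 := rfl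

instance mono_tι : Mono (tι F) := by
  haveI : ∀ X, Mono ((tι F).hom.app X) := fun X => by
    rw [AddCommGrpCat.mono_iff_injective]
    intro a b h
    exact Subtype.ext h
  haveI : Mono (tι F).hom := NatTrans.mono_of_mono_app _
  exact Sheaf.Hom.mono_of_presheaf_mono J AddCommGrpCat.{u} (tι F)

theorem torsionSh_tObj : SiteCmp.torsionSh J (tObj F) := by
  intro U s
  have hs : IsTorsSect F (s : torsSub F U).1 := (s : torsSub F U).2
  obtain ⟨S, hS, h⟩ := (IsTorsSect.iff_exists _).1 hs
  refine ⟨S, hS, fun V g hg => ?_⟩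
  exact isOfFinAddOrder_subtype (torsSub F V) _ (h g hg)

/-- a torsion sheaf maps to its torsion subsheaf -/
def toT (hF : SiteCmp.torsionSh J F) : F ⟶ tObj F :=
  ObjectProperty.homMk
    { app := fun X => AddCommGrpCat.ofHom
        { toFun := fun s => ⟨s, (IsTorsSect.iff_exists (U := unop X) s).2 (hF (unop X) s)⟩
          map_zero' := Subtype.ext rfl
          map_add' := fun _ _ => Subtype.ext rfl }
      naturality := fun _ _ g => by
        ext s
        rfl }

end Res

variable (J)

/-- the torsion subsheaf functor -/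
def tFun : Sheaf J AddCommGrpCat.{u} ⥤ Sheaf J AddCommGrpCat.{u} where
  obj F := tObj F
  map f := tMap f
  map_id F := by
    apply sheafHom_ext
    intro X s
    rfl
  map_comp f g := by
    apply sheafHom_ext
    intro X s
    rfl

/-- the torsion subsheaf functor, with values in torsion sheaves -/
def tFunctor : Sheaf J AddCommGrpCat.{u} ⥤ (SiteCmp.torsionSh J).FullSubcategory :=
  (SiteCmp.torsionSh J).lift (tFun J) (fun F => torsionSh_tObj F)

/-- the inclusion of torsion sheaves is left adjoint to the torsion subsheaf functor -/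
def tAdj : (SiteCmp.torsionSh J).ι ⊣ tFunctor J :=
  Adjunction.mkOfUnitCounit
    { unit :=
        { app := fun T => ObjectProperty.homMk (toT T.obj T.property)
          naturality := fun T T' f => by
            apply ObjectProperty.hom_ext (SiteCmp.torsionSh J)
            apply sheafHom_ext
            intro X s
            rfl }
      counit :=
        { app := fun F => tι F
          naturality := fun F G f => by
            apply sheafHom_ext
            intro X s
            rfl }
      left_triangle := by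
        ext T X s
        rfl
      right_triangle := by
        ext F X s
        rfl }

theorem tAdj_counit_app (F : Sheaf J AddCommGrpCat.{u}) : (tAdj J).counit.app F = tι F := rfl

theorem mono_tAdj_counit (F : Sheaf J AddCommGrpCat.{u}) : Mono ((tAdj J).counit.app F) := by
  rw [tAdj_counit_app]
  exact mono_tι F

variable {J}

section NSmul

theorem nsmul_id_apply (G : Sheaf J AddCommGrpCat.{u}) (n : ℕ) (V : C) (x : G.obj.obj (op V)) :
    ((n • 𝟙 G : G ⟶ G).hom.app (op V)).hom x = n • x := by
  have h : (Γ J V).map (n • 𝟙 G) = n • 𝟙 ((Γ J V).obj G) := by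
    rw [Functor.map_nsmul, CategoryTheory.Functor.map_id]
  have h2 : ((Γ J V).map (n • 𝟙 G)).hom x =
      (n • 𝟙 ((Γ J V).obj G) : (Γ J V).obj G ⟶ (Γ J V).obj G).hom x := by
    rw [h]
  exact h2

theorem nsmul_sections_eq_zero (G : Sheaf J AddCommGrpCat.{u}) (n : ℕ) (h0 : n • 𝟙 G = 0) (V : C)
    (x : G.obj.obj (op V)) : n • x = 0 := by
  have h : n • 𝟙 ((Γ J V).obj G) = 0 := by
    rw [← CategoryTheory.Functor.map_id, ← Functor.map_nsmul, h0, Functor.map_zero]
  have h2 : (n • 𝟙 ((Γ J V).obj G) : (Γ J V).obj G ⟶ (Γ J V).obj G).hom x =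
      (0 : (Γ J V).obj G ⟶ (Γ J V).obj G).hom x := by
    rw [h]
  exact h2

/-- (S1) a sheaf killed by a positive integer is torsion -/
theorem torsion_of_nsmul_eq_zero (G : Sheaf J AddCommGrpCat.{u}) (n : ℕ) (hn : 0 < n)
    (h0 : n • 𝟙 G = 0) : SiteCmp.torsionSh J G := by
  intro U s
  refine ⟨⊤, J.top_mem U, fun V g _ => ?_⟩
  rw [isOfFinAddOrder_iff_nsmul_eq_zero]
  exact ⟨n, hn, nsmul_sections_eq_zero G n h0 V _⟩

/-- (S2) a torsion sheaf on which all positive integers act injectively is zero -/
theorem isZero_of_torsion_of_mono (G : Sheaf J AddCommGrpCat.{u}) (hG : SiteCmp.torsionSh J G)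
    (hm : ∀ n : ℕ, 0 < n → Mono (n • 𝟙 G)) : IsZero G := by
  rw [IsZero.iff_id_eq_zero]
  apply sheafHom_ext
  intro X s
  have hs : s = 0 := by
    obtain ⟨S, hS, h⟩ := hG (unop X) s
    refine Groth.Agent.Helper3.ConstTF.eq_of_locally_eq G (U := unop X) s 0 S hS
      (fun V g hg => ?_)
    rw [map_zero]
    obtain ⟨n, hn, hns⟩ := isOfFinAddOrder_iff_nsmul_eq_zero.1 (h g hg)
    haveI := hm n hn
    have hmono : Mono ((Γ J V).map (n • 𝟙 G)) := inferInstance
    have hinj := (AddCommGrpCat.mono_iff_injective _).1 hmono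
    apply hinj
    rw [map_zero]
    exact (nsmul_id_apply G n V _).trans hns
  rw [hs, map_zero, map_zero]

theorem free_nsmul_injective (α : Type u) (n : ℕ) (hn : 0 < n) :
    Function.Injective (fun x : FreeAbelianGroup α => n • x) := by
  intro x y h
  apply (FreeAbelianGroup.equivFinsupp α).injective
  have h2 := congrArg (FreeAbelianGroup.equivFinsupp α) h
  simp only [map_nsmul] at h2
  exact nsmul_right_injective hn.ne' h2

/-- the presheaf whose sheafification is `freeSheaf J U` -/
abbrev freeP (U : C) : Cᵒᵖ ⥤ AddCommGrpCat.{u} := yoneda.obj U ⋙ AddCommGrpCat.free.{u}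

theorem mono_nsmul_free (U : C) (n : ℕ) (hn : 0 < n) :
    Mono (n • 𝟙 (CohCx.freeSheaf J U)) := by
  haveI : ∀ X, Mono ((n • 𝟙 (freeP U) : freeP U ⟶ freeP U).app X) := fun X => by
    have e1 : (n • 𝟙 (freeP U) : freeP U ⟶ freeP U).app X = n • 𝟙 ((freeP U).obj X) := by
      rw [NatTrans.app_nsmul, NatTrans.id_app]
    rw [e1, AddCommGrpCat.mono_iff_injective]
    intro a b h
    exact free_nsmul_injective _ n hn h
  haveI : Mono (n • 𝟙 (freeP U)) := NatTrans.mono_of_mono_app _
  have h : (presheafToSheaf J AddCommGrpCat.{u}).map (n • 𝟙 (freeP U)) =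
      n • 𝟙 (CohCx.freeSheaf J U) := by
    rw [Functor.map_nsmul, CategoryTheory.Functor.map_id]
  rw [← h]
  infer_instance

/-- (S3) positive integers act surjectively on injective sheaves -/
theorem epi_nsmul_of_injective (I : Sheaf J AddCommGrpCat.{u}) (hI : Injective I) (n : ℕ)
    (hn : 0 < n) : Epi (n • 𝟙 I) := by
  haveI := hI
  have hsurj : ∀ X : Cᵒᵖ, Function.Surjective ((n • 𝟙 I : I ⟶ I).hom.app X) := by
    intro X s
    haveI := mono_nsmul_free (J := J) (unop X) n hn
    obtain ⟨φ, hφ⟩ : ∃ φ : CohCx.freeSheaf J (unop X) ⟶ I,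
        FreeSec.secEquiv J (unop X) I φ = s :=
      ⟨(FreeSec.secEquiv J (unop X) I).symm s, Equiv.apply_symm_apply _ s⟩
    obtain ⟨ψ, hψ⟩ : ∃ ψ : CohCx.freeSheaf J (unop X) ⟶ I,
        (n • 𝟙 (CohCx.freeSheaf J (unop X))) ≫ ψ = φ :=
      ⟨Injective.factorThru φ _, Injective.comp_factorThru _ _⟩
    refine ⟨FreeSec.secEquiv J (unop X) I ψ, ?_⟩
    have h1 : ψ ≫ (n • 𝟙 I) = φ := by
      rw [← hψ, Preadditive.comp_nsmul, Preadditive.nsmul_comp, Category.comp_id,
        Category.id_comp]
    have h2 := FreeSec.secEquiv_comp J ψ (n • 𝟙 I)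
    rw [h1] at h2
    exact h2.symm.trans hφ
  haveI : Sheaf.IsLocallySurjective (n • 𝟙 I : I ⟶ I) :=
    Presheaf.isLocallySurjective_of_surjective J _ hsurj
  exact (Sheaf.isLocallySurjective_iff_epi' (φ := (n • 𝟙 I : I ⟶ I))).1 inferInstance

end NSmul

end Groth.Agent.Lib.Helper6.TorsD
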